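import Groth.Prelude.Def_RefHull
import Groth.Agent.QCohMod.Affine
import Groth.Agent.QCohMod.FiniteType
import Groth.Agent.QCohMod.Category
import Groth.Agent.QCohMod.Coherent
import Groth.Agent.CohTwo.ColimStalk

/-!
# Stalks of the sheaf Hom and the stalkwise criterion for reflexivity
-/

set_option autoImplicit false
set_option linter.style.haveILetI false

universe u

open CategoryTheory AlgebraicGeometry Opposite TopologicalSpace

namespace Groth.VectorBundles.RefHullStalk

open Groth.QCohMod

variable {X : Scheme.{u}}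

section Data

variable (F : X.Modules) {V : X.Opens} {ι κ : Type u} [Fintype ι]

/-- Sections over `V` spanning all stalks at points of `V`. -/
def Spans (s : ι → Γ(F, V)) : Prop :=
  ∀ (y : X) (hy : y ∈ V),
    Submodule.span (X.presheaf.stalk y) (Set.range fun i => germ F y hy (s i)) = ⊤

/-- Relations between sections generating all stalkwise relations. -/
def Rels (s : ι → Γ(F, V)) (rel : κ → ι → Γ(X, V)) : Prop :=
  (∀ j, ∑ i, rel j i • s i = 0) ∧
  ∀ (y : X) (hy : y ∈ V) (c : ι → X.presheaf.stalk y), ∑ i, c i • germ F y hy (s i) = 0 →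
    c ∈ Submodule.span (X.presheaf.stalk y)
      (Set.range fun j => fun i => X.presheaf.germ V y hy (rel j i))

end Data

theorem germ_sum_smul (M : X.Modules) {U : X.Opens} (y : X) (hy : y ∈ U) {ι : Type*}
    (t : Finset ι) (r : ι → Γ(X, U)) (m : ι → Γ(M, U)) :
    germ M y hy (∑ i ∈ t, r i • m i) =
      ∑ i ∈ t, X.presheaf.germ U y hy (r i) • germ M y hy (m i) := by
  rw [map_sum]
  exact Finset.sum_congr rfl fun i _ => germ_smul M y hy _ _

theorem exists_res_eq (M : X.Modules) {U V : X.Opens} (x : X) (hU : x ∈ U) (hV : x ∈ V)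
    (a : Γ(M, U)) (b : Γ(M, V)) (h : germ M x hU a = germ M x hV b) :
    ∃ (W : X.Opens) (_ : x ∈ W) (hWU : W ≤ U) (hWV : W ≤ V), res M hWU a = res M hWV b := by
  obtain ⟨W, hW, i, j, e⟩ := TopCat.Presheaf.germ_eq M.presheaf x hU hV a b h
  exact ⟨W, hW, i.le, j.le, e⟩

theorem exists_open_forall {x : X} {ι : Type*} [Finite ι] {V : X.Opens} (hxV : x ∈ V)
    (P : ι → X.Opens → Prop) (mono : ∀ i W W', W' ≤ W → P i W → P i W')
    (h : ∀ i, ∃ W : X.Opens, x ∈ W ∧ P i W) :
    ∃ W : X.Opens, x ∈ W ∧ W ≤ V ∧ ∀ i, P i W := by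
  classical
  cases nonempty_fintype ι
  choose W hxW hW using h
  refine ⟨V ⊓ (Finset.univ : Finset ι).inf W, ⟨hxV, ?_⟩, inf_le_left,
    fun i => mono i _ _ (inf_le_right.trans (Finset.inf_le (Finset.mem_univ i))) (hW i)⟩
  have : ∀ s : Finset ι, x ∈ s.inf W := by
    intro s
    induction s using Finset.induction_on with
    | empty => trivial
    | insert a s _ ih => rw [Finset.inf_insert]; exact ⟨hxW a, ih⟩
  exact this _

/-- Sections are determined by their germs. -/
theorem res_ext_germ (M : X.Modules) {U : X.Opens} {a b : Γ(M, U)}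
    (h : ∀ (y : X) (hy : y ∈ U), germ M y hy a = germ M y hy b) : a = b :=
  TopCat.Presheaf.section_ext (⟨M.presheaf, M.isSheaf⟩ : TopCat.Sheaf Ab.{u} X) U a b h

section Eval

variable {F : X.Modules} {V : X.Opens} {ι κ : Type u} [Fintype ι] {s : ι → Γ(F, V)}
variable (G : X.Modules)

omit [Fintype ι] in
theorem stalkHom_ext (hs : Spans F s) {y : X} (hy : y ∈ V) {M : Type*} [AddCommGroup M]
    [Module (X.presheaf.stalk y) M] {f g : F.presheaf.stalk y →ₗ[X.presheaf.stalk y] M}
    (h : ∀ i, f (germ F y hy (s i)) = g (germ F y hy (s i))) : f = g :=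
  LinearMap.ext_on (hs y hy) (Set.forall_mem_range.2 h)

/-- Injectivity of evaluation at a point near which finitely many sections generate. -/
theorem evalStalk_injective (hs : Spans F s) {x : X} (hx : x ∈ V) :
    Function.Injective (RefHull.evalStalk F G x) := by
  rw [injective_iff_map_eq_zero]
  intro θ hθ
  obtain ⟨U, hxU, g, rfl⟩ := exists_germ (RefHull.homSh F G) x θ
  rw [RefHull.evalStalk_germ] at hθ
  have hnear : ∀ i, ∃ W : X.Opens, x ∈ W ∧ W ≤ U ⊓ V ∧ ∀ (y : X) (hyU : y ∈ U) (hyV : y ∈ V),
      y ∈ W → g.1 ⟨y, hyU⟩ (germ F y hyV (s i)) = 0 := by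
    intro i
    obtain ⟨W, hxW, j, n, hn⟩ := RefHull.isLocSect_of_mem g (U ⊓ V) (homOfLE inf_le_left)
      (res F inf_le_right (s i)) ⟨x, hxU, hx⟩
    have h0 : germ G x hxW n = germ G x hxW 0 := by
      rw [map_zero]
      have := hn ⟨x, hxW⟩
      rw [show g.1 ⟨x, _⟩ = 0 from hθ, LinearMap.zero_apply] at this
      exact this.symm
    obtain ⟨W', hxW', h1, h2, e⟩ := exists_res_eq G x hxW hxW n 0 h0
    refine ⟨W', hxW', h1.trans j.le, fun y hyU hyV hy => ?_⟩
    have := hn ⟨y, h1 hy⟩
    rw [show germ F y hyV (s i) = F.presheaf.germ (U ⊓ V) y ⟨hyU, hyV⟩ (res F inf_le_right (s i))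
      from (germ_res F inf_le_right y ⟨hyU, hyV⟩ (s i)).symm]
    refine this.trans ?_
    change germ G y (h1 hy) n = 0
    rw [← germ_res G h1 y hy, e, map_zero, map_zero]
  obtain ⟨W, hxW, hWUV, hW⟩ := exists_open_forall (x := x) (V := U ⊓ V) ⟨hxU, hx⟩
    (fun i W => ∀ (y : X) (hyU : y ∈ U) (hyV : y ∈ V), y ∈ W →
      g.1 ⟨y, hyU⟩ (germ F y hyV (s i)) = 0)
    (fun i W W' hle h y hyU hyV hy => h y hyU hyV (hle hy))
    (fun i => (hnear i).imp fun W h => ⟨h.1, h.2.2⟩)
  have hres : res (RefHull.homSh F G) (hWUV.trans inf_le_left) g = 0 := Subtype.ext <| funext fun y =>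
    stalkHom_ext hs (hWUV y.2).2 fun i => hW i y.1 (hWUV y.2).1 (hWUV y.2).2 y.2
  rw [← germ_res (RefHull.homSh F G) (hWUV.trans inf_le_left) x hxW g, hres, map_zero]

/-- A section of the sheaf Hom from values on generators killing the relations. -/
theorem exists_section (hs : Spans F s) {rel : κ → ι → Γ(X, V)} (hr : Rels F s rel)
    {W : X.Opens} (hWV : W ≤ V) (n : ι → Γ(G, W))
    (hn : ∀ j, ∑ i, resFun X hWV (rel j i) • n i = 0) :
    ∃ g : Γ(RefHull.homSh F G, W), ∀ (y : X) (hy : y ∈ W) (i : ι),
      g.1 ⟨y, hy⟩ (germ F y (hWV hy) (s i)) = germ G y hy (n i) := by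
  classical
  have key : ∀ y : W, ∃ f : RefHull.StalkHom F G y.1, ∀ i,
      f (germ F y.1 (hWV y.2) (s i)) = germ G y.1 y.2 (n i) := by
    intro y
    let L := Fintype.linearCombination (X.presheaf.stalk y.1)
      (fun i => germ F y.1 (hWV y.2) (s i))
    have hL : Function.Surjective L := by
      rw [← LinearMap.range_eq_top, Fintype.range_linearCombination]
      exact hs y.1 _
    let N := Fintype.linearCombination (X.presheaf.stalk y.1) (fun i => germ G y.1 y.2 (n i))
    have hker : LinearMap.ker L ≤ LinearMap.ker N := by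
      intro c hc
      have hc' := hr.2 y.1 (hWV y.2) c
        (by simpa [L, Fintype.linearCombination_apply] using hc)
      refine (Submodule.span_le.2 ?_) hc'
      rintro _ ⟨j, rfl⟩
      rw [SetLike.mem_coe, LinearMap.mem_ker, Fintype.linearCombination_apply,
        ← map_zero (germ G y.1 y.2), ← hn j, germ_sum_smul]
      refine Finset.sum_congr rfl fun i _ => ?_
      congr 1
      exact (TopCat.Presheaf.germ_res_apply X.presheaf (homOfLE hWV) y.1 y.2 (rel j i)).symm
    refine ⟨(Submodule.liftQ _ N hker).comp (L.quotKerEquivOfSurjective hL).symm.toLinearMap,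
      fun i => ?_⟩
    have h1 : L (Pi.single i 1) = germ F y.1 (hWV y.2) (s i) := by
      simp [L, Fintype.linearCombination_apply_single]
    rw [← h1, LinearMap.comp_apply]
    have h2 : (L.quotKerEquivOfSurjective hL).symm (L (Pi.single i 1)) =
        Submodule.Quotient.mk (Pi.single i 1) := (LinearEquiv.symm_apply_eq _).2 rfl
    erw [h2, Submodule.liftQ_apply]
    simp [N, Fintype.linearCombination_apply_single]
  choose f hf using key
  refine ⟨⟨f, fun W' i' m z => ?_⟩, fun y hy i => hf ⟨y, hy⟩ i⟩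
  have hzV : z.1 ∈ V := hWV (i'.le z.2)
  obtain ⟨c, hc⟩ := (Submodule.mem_span_range_iff_exists_fun _).1
    ((hs z.1 hzV).ge (show germ F z.1 z.2 m ∈ ⊤ from trivial))
  choose A hzA a ha using fun i => TopCat.Presheaf.exists_germ_eq X.presheaf (c i)
  obtain ⟨B, hzB, hBW, hBA⟩ := exists_open_forall (x := z.1) (V := W') z.2
    (fun i B => B ≤ A i) (fun _ _ _ h h' => h.trans h') (fun i => ⟨A i, hzA i, le_rfl⟩)
  have hBV : B ≤ V := (hBW.trans i'.le).trans hWV
  have hgerm : germ F z.1 hzB (∑ i, resFun X (hBA i) (a i) • res F hBV (s i)) =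
      germ F z.1 z.2 m := by
    rw [germ_sum_smul, ← hc]
    refine Finset.sum_congr rfl fun i _ => ?_
    rw [germ_res, ← ha i]
    congr 1
    exact TopCat.Presheaf.germ_res_apply X.presheaf (homOfLE (hBA i)) z.1 hzB (a i)
  obtain ⟨C, hzC, hCB, hCW, e⟩ := exists_res_eq F z.1 hzB z.2 _ _ hgerm
  refine ⟨C, hzC, homOfLE hCW,
    ∑ i, resFun X (hCB.trans (hBA i)) (a i) • res G (hCW.trans i'.le) (n i), fun y => ?_⟩
  have hy1 : F.presheaf.germ W' y.1 (hCW y.2) m =
      ∑ i, X.presheaf.germ C y.1 y.2 (resFun X (hCB.trans (hBA i)) (a i)) •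
        germ F y.1 (hBV (hCB y.2)) (s i) := by
    rw [← germ_res F hCW y.1 y.2 m, ← e, map_sum, map_sum]
    refine Finset.sum_congr rfl fun i _ => ?_
    rw [res_smul, germ_smul, germ_res, germ_res]
    congr 2
    exact resFun_resFun _ _ _
  change _ = germ G y.1 y.2 _
  rw [hy1, map_sum, germ_sum_smul]
  refine Finset.sum_congr rfl fun i _ => ?_
  rw [map_smul, germ_res]
  exact congrArg _ (hf ⟨y.1, (hCW.trans i'.le) y.2⟩ i)

/-- Bijectivity of evaluation at a point near which there is a finite presentation. -/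
theorem evalStalk_bijective [Finite κ] (hs : Spans F s) {rel : κ → ι → Γ(X, V)}
    (hr : Rels F s rel) {x : X} (hx : x ∈ V) :
    Function.Bijective (RefHull.evalStalk F G x) := by
  refine ⟨evalStalk_injective G hs hx, fun φ => ?_⟩
  choose A hxA n hn using fun i => exists_germ G x (φ (germ F x hx (s i)))
  obtain ⟨W, hxW, hWV, hWA⟩ := exists_open_forall (x := x) (V := V) hx
    (fun i B => B ≤ A i) (fun _ _ _ h h' => h.trans h') (fun i => ⟨A i, hxA i, le_rfl⟩)
  have hz : ∀ j, ∃ W' : X.Opens, x ∈ W' ∧ ∃ (B₁ : X.Opens) (_ : W' ≤ B₁) (h : B₁ ≤ W),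
      res G h (∑ i, resFun X hWV (rel j i) • res G (hWA i) (n i)) = 0 := by
    intro j
    have h0 : germ G x hxW (∑ i, resFun X hWV (rel j i) • res G (hWA i) (n i)) =
        germ G x hxW 0 := by
      rw [map_zero, germ_sum_smul, ← map_zero φ, ← map_zero (germ F x hx), ← hr.1 j,
        germ_sum_smul, map_sum]
      refine Finset.sum_congr rfl fun i _ => ?_
      rw [map_smul, germ_res, hn i]
      congr 1
      exact TopCat.Presheaf.germ_res_apply X.presheaf (homOfLE hWV) x hxW (rel j i)
    obtain ⟨W', hxW', h1, h2, e⟩ := exists_res_eq G x hxW hxW _ _ h0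
    exact ⟨W', hxW', W', le_rfl, h1, e.trans (map_zero _)⟩
  obtain ⟨W', hxW', hW'W, hW'⟩ := exists_open_forall (x := x) (V := W) hxW
    (fun j B => ∃ (B₁ : X.Opens) (_ : B ≤ B₁) (h : B₁ ≤ W),
      res G h (∑ i, resFun X hWV (rel j i) • res G (hWA i) (n i)) = 0)
    (fun j B B' hle hB => hB.imp fun B₁ h => ⟨hle.trans h.1, h.2⟩) hz
  obtain ⟨g, hg⟩ := exists_section G hs hr (hW'W.trans hWV)
    (fun i => res G (hW'W.trans (hWA i)) (n i)) fun j => by
      obtain ⟨B₁, hle, h1, e⟩ := hW' j
      have := congrArg (res G hle) e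
      rw [map_zero, res_res, map_sum] at this
      rw [← this]
      refine Finset.sum_congr rfl fun i _ => ?_
      rw [res_smul, res_res, resFun_resFun]
  refine ⟨germ (RefHull.homSh F G) x hxW' g, ?_⟩
  rw [RefHull.evalStalk_germ]
  refine stalkHom_ext hs hx fun i => ?_
  refine (hg x hxW' i).trans ?_
  rw [germ_res]
  exact hn i

end Eval

section Affine

/-- The germ of `1` in the stalk of the structure module. -/
noncomputable def one (y : X) : (Coh.structureModule X).presheaf.stalk y :=
  (Coh.structureModule X).presheaf.germ ⊤ y trivial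
    (show Γ(Coh.structureModule X, ⊤) from (1 : Γ(X, ⊤)))

theorem germ_structureModule {U : X.Opens} (y : X) (hy : y ∈ U) (a : Γ(X, U)) :
    germ (Coh.structureModule X) y hy (show Γ(Coh.structureModule X, U) from a) =
      X.presheaf.germ U y hy a • one y := by
  rw [one, show (Coh.structureModule X).presheaf.germ ⊤ y trivial
      (show Γ(Coh.structureModule X, ⊤) from (1 : Γ(X, ⊤))) =
    germ (Coh.structureModule X) y (hy : y ∈ U)
      (res (Coh.structureModule X) (le_top : U ≤ ⊤)
        (show Γ(Coh.structureModule X, ⊤) from (1 : Γ(X, ⊤)))) from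
    (germ_res _ le_top y hy _).symm, ← germ_smul]
  congr 1
  change a = a * resFun X le_top 1
  rw [map_one]
  exact (mul_one a).symm

/-- The stalk of the structure module is the local ring. -/
noncomputable def oneEquiv (y : X) :
    X.presheaf.stalk y ≃ₗ[X.presheaf.stalk y] (Coh.structureModule X).presheaf.stalk y :=
  LinearEquiv.ofBijective _ (CohTwo.bijective_toSpanSingleton_one y)

theorem oneEquiv_apply (y : X) (a : X.presheaf.stalk y) : oneEquiv y a = a • one y := rfl

/-- Finitely many tuples generate the syzygies of sections on a Noetherian affine open, at every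
point of it. -/
theorem exists_kernel_gens {U : X.Opens} (hU : IsAffineOpen U) [IsNoetherianRing Γ(X, U)]
    (M : X.Modules) [M.IsQuasicoherent] {ι κ : Type u} [Fintype ι] [Finite κ]
    (t : κ → ι → Γ(M, U)) :
    ∃ (ρ : Type u) (_ : Fintype ρ) (R : ρ → ι → Γ(X, U)),
      (∀ l j, ∑ i, R l i • t j i = 0) ∧
      ∀ (y : X) (hy : y ∈ U) (c : ι → X.presheaf.stalk y),
        (∀ j, ∑ i, c i • germ M y hy (t j i) = 0) →
        c ∈ Submodule.span (X.presheaf.stalk y)
          (Set.range fun l => fun i => X.presheaf.germ U y hy (R l i)) := by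
  classical
  cases nonempty_fintype κ
  let K : Submodule Γ(X, U) (ι → Γ(X, U)) :=
    LinearMap.ker (LinearMap.pi fun j => Fintype.linearCombination Γ(X, U) (t j))
  obtain ⟨n, r, hr⟩ := Submodule.fg_iff_exists_fin_generating_family.1 (IsNoetherian.noetherian K)
  refine ⟨ULift.{u} (Fin n), inferInstance, fun l => r l.down, fun l j => ?_, fun y hy c hc => ?_⟩
  · have : r l.down ∈ K := hr ▸ Submodule.subset_span ⟨l.down, rfl⟩
    have := congrFun (LinearMap.mem_ker.1 this) j
    simpa [Fintype.linearCombination_apply] using this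
  letI : Algebra Γ(X, U) (X.presheaf.stalk y) := (X.presheaf.germ U y hy).hom.toAlgebra
  haveI : IsLocalization.AtPrime (X.presheaf.stalk y) (hU.primeIdealOf ⟨y, hy⟩).asIdeal :=
    hU.isLocalization_stalk ⟨y, hy⟩
  obtain ⟨⟨b, hb⟩, hint⟩ := IsLocalization.exist_integer_multiples_of_finite
    (hU.primeIdealOf ⟨y, hy⟩).asIdeal.primeCompl c
  choose a ha using hint
  have ha' : ∀ i, X.presheaf.germ U y hy (a i) = X.presheaf.germ U y hy b * c i := fun i => by
    refine (ha i).trans ?_
    rw [Algebra.smul_def]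
    rfl
  have hu : ∀ j, ∃ u : Γ(X, U), y ∈ X.basicOpen u ∧ u • ∑ i, a i • t j i = 0 := by
    intro j
    refine exists_smul_eq_zero_of_germ_eq_zero M hU y hy _ ?_
    rw [germ_sum_smul]
    have : ∀ i, X.presheaf.germ U y hy (a i) • germ M y hy (t j i) =
        X.presheaf.germ U y hy b • (c i • germ M y hy (t j i)) := fun i => by
      rw [ha', mul_smul]
    simp_rw [this, ← Finset.smul_sum, hc j, smul_zero]
  choose u hu hu0 using hu
  have hmemK : (fun i => (∏ j, u j) * a i) ∈ K := by
    rw [LinearMap.mem_ker]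
    funext j
    rw [LinearMap.pi_apply, Fintype.linearCombination_apply, Pi.zero_apply,
      ← Finset.prod_erase_mul _ _ (Finset.mem_univ j)]
    simp_rw [mul_assoc, mul_smul]
    rw [← Finset.smul_sum, ← Finset.smul_sum, hu0 j, smul_zero]
  set S := Submodule.span (X.presheaf.stalk y)
    (Set.range fun l : ULift.{u} (Fin n) => fun i => X.presheaf.germ U y hy (r l.down i))
  have hmemS : ∀ v ∈ K, (fun i => X.presheaf.germ U y hy (v i)) ∈ S := by
    intro v hv
    rw [← hr] at hv
    induction hv using Submodule.span_induction with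
    | mem v hv => obtain ⟨l, rfl⟩ := hv; exact Submodule.subset_span ⟨⟨l⟩, rfl⟩
    | zero => simp only [Pi.zero_apply, map_zero]; exact S.zero_mem
    | add v w _ _ h1 h2 =>
      simp only [Pi.add_apply, map_add]
      exact S.add_mem h1 h2
    | smul p v _ h =>
      simp only [Pi.smul_apply, smul_eq_mul, map_mul]
      exact S.smul_mem _ h
  have hunit : IsUnit (X.presheaf.germ U y hy ((∏ j, u j) * b)) := by
    rw [map_mul, map_prod]
    refine IsUnit.mul (IsUnit.prod_iff.2 fun j _ => (Scheme.mem_basicOpen X _ y hy).1 (hu j)) ?_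
    exact IsLocalization.map_units (X.presheaf.stalk y) (⟨b, hb⟩ :
      (hU.primeIdealOf ⟨y, hy⟩).asIdeal.primeCompl)
  obtain ⟨v, hv⟩ := hunit
  have h1 : (v : X.presheaf.stalk y) • c ∈ S := by
    have := hmemS _ hmemK
    convert this using 1
    funext i
    rw [Pi.smul_apply, smul_eq_mul, hv, map_mul, map_mul, mul_assoc, ← ha']
  have h2 := S.smul_mem (↑v⁻¹ : X.presheaf.stalk y) h1
  rwa [smul_smul, Units.inv_mul, one_smul] at h2

variable [IsLocallyNoetherian X]

/-- Generators and relations of a coherent module and of its dual near every point. -/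
theorem exists_data (F : X.Modules) (hF : Coh.IsCoh F) (x : X) :
    ∃ (U : X.Opens) (_ : x ∈ U) (ι : Type u) (_ : Fintype ι) (s : ι → Γ(F, U)) (κ : Type u)
      (_ : Fintype κ) (rel : κ → ι → Γ(X, U)), Spans F s ∧ Rels F s rel ∧
      ∃ (ρ : Type u) (_ : Fintype ρ) (g : ρ → Γ(RefHull.dual F, U)) (σ : Type u) (_ : Fintype σ)
        (rel' : σ → ρ → Γ(X, U)), Spans (RefHull.dual F) g ∧ Rels (RefHull.dual F) g rel' := by
  classical
  have : F.IsQuasicoherent := hF.1
  obtain ⟨_, ⟨U, hU, rfl⟩, hx, -⟩ := X.isBasis_affineOpens.exists_subset_of_mem_open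
    (Set.mem_univ x) isOpen_univ
  have : IsNoetherianRing Γ(X, U) := IsLocallyNoetherian.component_noetherian ⟨U, hU⟩
  have hfin : Module.Finite Γ(X, U) Γ(F, U) := finite_sections F hF.2 hU
  obtain ⟨n, m, hm⟩ := Module.Finite.exists_fin (R := Γ(X, U)) (M := Γ(F, U))
  let s : ULift.{u} (Fin n) → Γ(F, U) := fun i => m i.down
  have hs : Spans F s := by
    intro y hy
    refine eq_top_iff.2 fun t _ => ?_
    obtain ⟨a, w, ha, hw⟩ := exists_smul_germ_eq F hU y hy t
    obtain ⟨c, rfl⟩ := (Submodule.mem_span_range_iff_exists_fun Γ(X, U)).1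
      (hm.ge (show w ∈ ⊤ from trivial))
    obtain ⟨v, hv⟩ := (Scheme.mem_basicOpen X a y hy).1 ha
    rw [← one_smul (X.presheaf.stalk y) t, ← Units.inv_mul v, mul_smul, hv, hw, germ_sum_smul]
    exact Submodule.smul_mem _ _ (Submodule.sum_mem _ fun i _ =>
      Submodule.smul_mem _ _ (Submodule.subset_span ⟨⟨i⟩, rfl⟩))
  obtain ⟨κ, hκ, rel, hrel, hrelgen⟩ := exists_kernel_gens hU F (fun _ : PUnit.{u + 1} => s)
  have hr : Rels F s rel :=
    ⟨fun j => hrel j ⟨⟩, fun y hy c hc => hrelgen y hy c fun _ => hc⟩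
  obtain ⟨ρ, hρ, R, hR, hRgen⟩ := exists_kernel_gens hU (Coh.structureModule X)
    (fun j i => (show Γ(Coh.structureModule X, U) from rel j i))
  have hsec : ∀ l, ∃ g : Γ(RefHull.dual F, U), ∀ (y : X) (hy : y ∈ U) (i : ULift.{u} (Fin n)),
      g.1 ⟨y, hy⟩ (germ F y hy (s i)) = X.presheaf.germ U y hy (R l i) • one y := by
    intro l
    obtain ⟨g, hg⟩ := exists_section (Coh.structureModule X) hs hr le_rfl
      (fun i => (show Γ(Coh.structureModule X, U) from R l i)) fun j => by
        refine Eq.trans ?_ (hR l j)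
        refine Finset.sum_congr rfl fun i _ => ?_
        rw [resFun_self]
        exact mul_comm (rel j i) (R l i)
    exact ⟨g, fun y hy i => (hg y hy i).trans (germ_structureModule y hy _)⟩
  choose g hg using hsec
  have heval : ∀ (y : X) (hy : y ∈ U) (d : ρ → X.presheaf.stalk y) (i : ULift.{u} (Fin n)),
      RefHull.evalStalk F (Coh.structureModule X) y
        (∑ l, d l • germ (RefHull.dual F) y hy (g l)) (germ F y hy (s i)) =
      (∑ l, d l * X.presheaf.germ U y hy (R l i)) • one y := by
    intro y hy d i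
    rw [map_sum, LinearMap.sum_apply, Finset.sum_smul]
    refine Finset.sum_congr rfl fun l _ => ?_
    rw [map_smul, LinearMap.smul_apply, RefHull.evalStalk_germ, hg, mul_smul]
  obtain ⟨σ, hσ, rel', hrel', hrelgen'⟩ := exists_kernel_gens hU (Coh.structureModule X)
    (fun i l => (show Γ(Coh.structureModule X, U) from R l i))
  refine ⟨U, hx, _, inferInstance, s, κ, hκ, rel, hs, hr, ρ, hρ, g, σ, hσ, rel', ?_, ?_, ?_⟩
  · intro y hy
    refine eq_top_iff.2 fun θ _ => ?_
    let c := fun i => (oneEquiv y).symm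
      (RefHull.evalStalk F (Coh.structureModule X) y θ (germ F y hy (s i)))
    have hc : ∀ i, c i • one y =
        RefHull.evalStalk F (Coh.structureModule X) y θ (germ F y hy (s i)) := fun i => by
      rw [← oneEquiv_apply, LinearEquiv.apply_symm_apply]
    have hmem := hRgen y hy c fun j => by
      have h0 := congrArg (fun z => RefHull.evalStalk F (Coh.structureModule X) y θ (germ F y hy z))
        (hr.1 j)
      simp only [map_zero, map_sum, map_smul, germ_smul] at h0
      refine Eq.trans ?_ h0
      refine Finset.sum_congr rfl fun i _ => ?_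
      rw [← hc, germ_structureModule, smul_comm]
    obtain ⟨d, hd⟩ := (Submodule.mem_span_range_iff_exists_fun _).1 hmem
    have : θ = ∑ l, d l • germ (RefHull.dual F) y hy (g l) := by
      refine evalStalk_injective _ hs hy (stalkHom_ext hs hy fun i => ?_)
      rw [heval, ← hc, ← hd]
      simp
    rw [this]
    exact Submodule.sum_mem _ fun l _ =>
      Submodule.smul_mem _ _ (Submodule.subset_span ⟨l, rfl⟩)
  · intro m'
    refine res_ext_germ _ fun y hy => ?_
    rw [map_zero, germ_sum_smul]
    refine evalStalk_injective _ hs hy (stalkHom_ext hs hy fun i => ?_)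
    rw [heval, map_zero, LinearMap.zero_apply]
    have := congrArg (germ (Coh.structureModule X) y hy) (hrel' m' i)
    rw [germ_sum_smul, map_zero] at this
    rw [Finset.sum_smul]
    refine Eq.trans (Finset.sum_congr rfl fun l _ => ?_) this
    rw [germ_structureModule, mul_smul]
  · intro y hy d hd
    refine hrelgen' y hy d fun i => ?_
    have := congrArg (fun θ => RefHull.evalStalk F (Coh.structureModule X) y θ (germ F y hy (s i))) hd
    simp only [heval, map_zero, LinearMap.zero_apply] at this
    rw [Finset.sum_smul] at this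
    refine Eq.trans (Finset.sum_congr rfl fun l _ => ?_) this
    rw [germ_structureModule, mul_smul]

/-- Evaluation at a point is bijective on the dual of a coherent module. -/
theorem evalStalk_bijective_of_isCoh (F G : X.Modules) (hF : Coh.IsCoh F) (x : X) :
    Function.Bijective (RefHull.evalStalk F G x) := by
  obtain ⟨U, hx, ι, _, s, κ, _, rel, hs, hr, -⟩ := exists_data F hF x
  exact evalStalk_bijective G hs hr hx

omit [IsLocallyNoetherian X] in
theorem stalkMapₗ_bidualMap (F : X.Modules) (x : X) (v : F.presheaf.stalk x) :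
    RefHull.evalStalk (RefHull.dual F) (Coh.structureModule X) x
      (RefHull.stalkMapₗ (RefHull.bidualMap F) x v) = RefHull.bidualAt F x v := by
  obtain ⟨U, hU, m, rfl⟩ := exists_germ F x v
  rw [RefHull.stalkMapₗ_germ, RefHull.evalStalk_germ, RefHull.bidualMap_app_apply]

/-- For coherent modules on a locally Noetherian scheme, reflexivity is stalkwise. -/
theorem isReflexive_iff_forall_stalk (F : X.Modules) (hF : Coh.IsCoh F) :
    RefHull.IsReflexive F ↔
      ∀ x : X, Module.IsReflexive (X.presheaf.stalk x) (F.presheaf.stalk x) := by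
  have key : ∀ x : X, Function.Bijective (RefHull.stalkMapₗ (RefHull.bidualMap F) x) ↔
      Module.IsReflexive (X.presheaf.stalk x) (F.presheaf.stalk x) := by
    intro x
    obtain ⟨U, hx, ι, _, s, κ, _, rel, hs, hr, ρ, _, g, σ, _, rel', hg, hrg⟩ := exists_data F hF x
    have hb := evalStalk_bijective (Coh.structureModule X) hg hrg hx
    let ε := (oneEquiv x).symm
    let E : (RefHull.dual F).presheaf.stalk x ≃ₗ[X.presheaf.stalk x]
        Module.Dual (X.presheaf.stalk x) (F.presheaf.stalk x) :=
      (LinearEquiv.ofBijective _ (evalStalk_bijective (Coh.structureModule X) hs hr hx)).trans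
        (LinearEquiv.congrRight ε)
    let Ψ : RefHull.StalkHom (RefHull.dual F) (Coh.structureModule X) x ≃ₗ[X.presheaf.stalk x]
        Module.Dual (X.presheaf.stalk x) (Module.Dual (X.presheaf.stalk x) (F.presheaf.stalk x)) :=
      LinearEquiv.arrowCongr E ε
    have h1 : ⇑(Module.Dual.eval (X.presheaf.stalk x) (F.presheaf.stalk x)) =
        Ψ ∘ RefHull.evalStalk (RefHull.dual F) (Coh.structureModule X) x ∘
          RefHull.stalkMapₗ (RefHull.bidualMap F) x := by
      funext v
      refine LinearMap.ext fun φ => ?_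
      simp only [Function.comp_apply, stalkMapₗ_bidualMap, Ψ, LinearEquiv.arrowCongr_apply,
        RefHull.bidualAt_apply, Module.Dual.eval_apply]
      conv_lhs => rw [← E.apply_symm_apply φ]
      rfl
    rw [← Function.Bijective.of_comp_iff' hb,
      ← Function.Bijective.of_comp_iff' Ψ.bijective, ← h1]
    exact ⟨fun h => ⟨h⟩, fun h => h.bijective_dual_eval'⟩
  constructor
  · intro h x
    refine (key x).1 ?_
    have : IsIso (RefHull.bidualMap F) := h
    exact ConcreteCategory.bijective_of_isIso ((stalk x).map (RefHull.bidualMap F))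
  · intro h
    exact isIso_of_stalk _ fun x => (ConcreteCategory.isIso_iff_bijective _).2 ((key x).2 (h x))

end Affine

end Groth.VectorBundles.RefHullStalk
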