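import Groth.Agent.VectorBundles.RefHullStalk

/-!
# Finitely many sections generating the stalks of a module of finite type
-/

set_option autoImplicit false

universe u

open CategoryTheory Limits AlgebraicGeometry Opposite TopologicalSpace

namespace Groth.VectorBundles.RefHullStalk

open Groth.QCohMod

variable {X : Scheme.{u}}

/-- An epimorphism from a finite free module gives sections spanning every stalk. -/
theorem spans_of_epi {M : X.Modules} {ι : Type u} [Fintype ι]
    (π : (∐ fun _ : ι => Coh.structureModule X) ⟶ M) [Epi π] :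
    Spans M (fun i => π.app ⊤ ((Sigma.ι (fun _ : ι => Coh.structureModule X) i).app ⊤
      (oneSec ⊤))) := by
  classical
  intro y hy
  refine eq_top_iff.2 fun t _ => ?_
  obtain ⟨z, rfl⟩ := (epi_iff_stalk π).1 inferInstance y t
  let p : ι → ((∐ fun _ : ι => Coh.structureModule X) ⟶ Coh.structureModule X) :=
    fun i => Sigma.desc fun j => if i = j then 𝟙 _ else 0
  have hp : ∑ i, p i ≫ Sigma.ι (fun _ : ι => Coh.structureModule X) i = 𝟙 _ := by
    refine Sigma.hom_ext _ _ fun j => ?_
    rw [Preadditive.comp_sum, Finset.sum_eq_single j]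
    · simp [p]
    · intro i _ hij
      simp [p, hij]
    · simp
  have hz : z = ∑ i, (stalk y).map (p i ≫ Sigma.ι (fun _ : ι => Coh.structureModule X) i) z := by
    have h0 : (stalk y).map (𝟙 (∐ fun _ : ι => Coh.structureModule X)) z = z :=
      congr($((stalk y).map_id (∐ fun _ : ι => Coh.structureModule X)) z)
    conv_lhs => rw [← h0, ← hp, Functor.map_sum]
    exact map_sum (AddMonoidHom.mk' (fun f : (stalk y).obj (∐ fun _ : ι => Coh.structureModule X) ⟶
      (stalk y).obj (∐ fun _ : ι => Coh.structureModule X) => f z) fun _ _ => rfl) _ _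
  rw [hz, map_sum]
  refine Submodule.sum_mem _ fun i _ => ?_
  obtain ⟨c, hc⟩ := (CohTwo.bijective_toSpanSingleton_one y).2 ((stalk y).map (p i) z)
  have h1 : (stalk y).map π ((stalk y).map (p i ≫ Sigma.ι (fun _ : ι => Coh.structureModule X) i) z)
      = CohTwo.stalkLin (Sigma.ι (fun _ : ι => Coh.structureModule X) i ≫ π) y
          ((stalk y).map (p i) z) := by
    change _ = (stalk y).map _ _
    simp only [← ConcreteCategory.comp_apply, ← Functor.map_comp, Category.assoc]
  rw [h1, ← hc, LinearMap.toSpanSingleton_apply, map_smul]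
  erw [CohTwo.stalkLin_germ]
  refine Submodule.smul_mem _ _ (Submodule.subset_span ⟨i, ?_⟩)
  rfl

/-- Spanning sections on an open subscheme give spanning sections. -/
theorem spans_of_restrict (M : X.Modules) {V : X.Opens} {ι : Type u} [Fintype ι]
    {t : ι → Γ(M.restrict V.ι, ⊤)} (h : Spans (M.restrict V.ι) t) :
    Spans M (fun i => Groth.QCohMod.res M (show V ≤ V.ι ''ᵁ ⊤ by simp)
      ((M.restrictAppIso V.ι ⊤).hom (t i))) := by
  intro y hy
  refine eq_top_iff.2 fun v hv0 => ?_
  clear hv0
  let y' : (V : Scheme.{u}) := ⟨y, hy⟩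
  let e : (M.restrict V.ι).presheaf.stalk y' ≅ M.presheaf.stalk y :=
    (Scheme.Modules.restrictStalkNatIso V.ι y').app M
  have key : ∀ (U : (V : Scheme.{u}).Opens) (hU : y' ∈ U) (m : Γ(M.restrict V.ι, U)),
      e.hom (germ (M.restrict V.ι) y' hU m) =
        germ M y (⟨y', hU, rfl⟩ : y ∈ V.ι ''ᵁ U) ((M.restrictAppIso V.ι U).hom m) := fun U hU m =>
    congr($(Scheme.Modules.germ_restrictStalkNatIso_hom_app (U := U) V.ι y' M hU) m)
  obtain ⟨v', rfl⟩ : ∃ v', e.hom v' = v := ⟨e.inv v, Iso.inv_hom_id_apply e v⟩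
  have hv : v' ∈ Submodule.span ((V : Scheme.{u}).presheaf.stalk y')
      (Set.range fun i =>
        germ (M.restrict V.ι) y' (show y' ∈ (⊤ : (V : Scheme.{u}).Opens) from trivial) (t i)) :=
    (h y' trivial).ge trivial
  induction hv using Submodule.span_induction with
  | mem w hw =>
    obtain ⟨i, rfl⟩ := hw
    refine Submodule.subset_span ⟨i, ?_⟩
    beta_reduce
    rw [key, germ_res]
  | zero => rw [map_zero]; exact Submodule.zero_mem _
  | add a b _ _ h1 h2 => rw [map_add]; exact Submodule.add_mem _ h1 h2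
  | smul c w _ hw =>
    obtain ⟨A, hA, r, rfl⟩ := TopCat.Presheaf.exists_germ_eq (V : Scheme.{u}).presheaf c
    obtain ⟨B, hB, m, rfl⟩ := exists_germ (M.restrict V.ι) y' w
    have hAB : y' ∈ A ⊓ B := ⟨hA, hB⟩
    rw [← germ_res (M.restrict V.ι) (inf_le_right : A ⊓ B ≤ B) y' hAB m] at hw ⊢
    rw [← TopCat.Presheaf.germ_res_apply (V : Scheme.{u}).presheaf
      (homOfLE (inf_le_left : A ⊓ B ≤ A)) y' hAB r]
    erw [← germ_smul (M.restrict V.ι) y' hAB]
    rw [key] at hw ⊢
    erw [Scheme.Modules.smul_restrictAppIso_hom_apply V.ι M]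
    erw [germ_smul]
    exact Submodule.smul_mem _ _ hw

/-- A module of finite type is generated near every point by finitely many sections. -/
theorem exists_spans_of_isFT (M : X.Modules) (hM : CohB1.IsFT M) (x : X) :
    ∃ (V : X.Opens) (_ : x ∈ V) (ι : Type u) (_ : Fintype ι) (s : ι → Γ(M, V)), Spans M s := by
  obtain ⟨V, hxV, G, hG⟩ := exists_generators_of_isFT M hM x
  let _ := Fintype.ofFinite G.I
  let π : (∐ fun _ : G.I => Coh.structureModule (V : Scheme.{u})) ⟶ M.restrict V.ι := G.π
  have : Epi π := G.epi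
  exact ⟨V, hxV, G.I, inferInstance, _, spans_of_restrict M (spans_of_epi π)⟩

end Groth.VectorBundles.RefHullStalk
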