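import Groth.Agent.Ega4Algebra1.RegularLocal
import Groth.Agent.Ega4Algebra1.PrincipalPrime

/-!
# Regular local rings are integrally closed
-/

set_option autoImplicit false

universe u

open IsLocalRing

namespace Groth.VectorBundles

/-- A regular local ring is integrally closed. -/
theorem isIntegrallyClosed_of_isRegularLocalRing (R : Type u) [CommRing R] [IsRegularLocalRing R] :
    IsIntegrallyClosed R := by
  generalize hn : (maximalIdeal R).spanFinrank = n
  induction n generalizing R with
  | zero =>
    have : maximalIdeal R = ⊥ :=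
      (Submodule.spanFinrank_eq_zero_iff_eq_bot (IsNoetherian.noetherian _)).mp hn
    let _ := (isField_iff_maximalIdeal_eq.mpr this).toField
    infer_instance
  | succ n ih =>
    have hbot : maximalIdeal R ≠ ⊥ := fun h => by rw [h, Submodule.spanFinrank_bot] at hn; omega
    obtain ⟨x, hx, hx2⟩ :=
      SetLike.not_le_iff_exists.1 (Groth.Ega4Algebra1.maximalIdeal_not_le_sq hbot)
    obtain ⟨hq, -⟩ := Groth.Ega4Algebra1.isRegularLocalRing_quotient_span_singleton hx hx2
    have h1 := Groth.Ega4Algebra1.spanFinrank_maximalIdeal_quotient_lt hx hx2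
    have h2 := Groth.Ega4Algebra1.spanFinrank_maximalIdeal_le_quotient_add_one (R := R) hx
    have hicl := ih (R ⧸ Ideal.span {x}) (by omega)
    have := Groth.Ega4Algebra1.isDomain_of_isRegularLocalRing (R ⧸ Ideal.span {x})
    have hp : (Ideal.span {x}).IsPrime := (Ideal.Quotient.isDomain_iff_prime _).mp this
    have := Groth.Ega4Algebra1.isDomain_of_isRegularLocalRing R
    exact Groth.Ega4Algebra1.isIntegrallyClosed_of_isPrime_span_singleton hx
      (fun h => hx2 (h ▸ zero_mem _)) hp

end Groth.VectorBundles
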