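import Groth.Agent.PicAux.Sections
import Groth.Prelude.Def_Coh
import Mathlib.AlgebraicGeometry.Morphisms.Proper
import Mathlib.AlgebraicGeometry.Morphisms.Smooth
import Mathlib.FieldTheory.IsAlgClosed.Basic
import Mathlib.CategoryTheory.Preadditive.Biproducts

/-!
# Endomorphisms of invertible modules
-/

set_option autoImplicit false
set_option linter.style.haveILetI false

universe u

open CategoryTheory CategoryTheory.Limits AlgebraicGeometry Opposite

namespace Groth.VectorBundles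

open Groth.PicAux

variable {X : Scheme.{u}}

/-- An endomorphism of an invertible module is multiplication by a global function. -/
theorem exists_eq_smul_of_isInvertible {L : X.Modules} (hL : PicF.IsInvertible L) (φ : L ⟶ L) :
    ∃ r : Γ(X, ⊤), ∀ (V : X.Opens) (x : Γ(L, V)), φ.app V x = resX X (le_top : V ≤ ⊤) r • x := by
  obtain ⟨U, s, hU, -, hs⟩ := exists_gen_cover hL
  choose c hc using fun i => (hs i).exists_coeff le_rfl (φ.app (U i) (s i))
  have hcomp : TopCat.Presheaf.IsCompatible X.presheaf U c := by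
    intro i j
    obtain ⟨a, ha⟩ := (hs j).exists_coeff (inf_le_right : U i ⊓ U j ≤ U j)
      (res L inf_le_left (s i))
    refine (hs i).smul_inj (inf_le_left : U i ⊓ U j ≤ U i) ?_
    change resX X (inf_le_left : U i ⊓ U j ≤ U i) (c i) •
        res L (inf_le_left : U i ⊓ U j ≤ U i) (s i) =
      resX X (inf_le_right : U i ⊓ U j ≤ U j) (c j) • res L (inf_le_left : U i ⊓ U j ≤ U i) (s i)
    have hi : φ.app _ (res L (inf_le_left : U i ⊓ U j ≤ U i) (s i)) =
        resX X (inf_le_left : U i ⊓ U j ≤ U i) (c i) •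
          res L (inf_le_left : U i ⊓ U j ≤ U i) (s i) := by
      rw [app_res, hc i]
      simp
    rw [← hi, ha, Scheme.Modules.Hom.app_smul, app_res, hc j]
    simp [smul_smul, mul_comm]
  obtain ⟨r, hr⟩ : ∃ r : Γ(X, ⊤), ∀ i, resX X (le_top : U i ≤ ⊤) r = c i := by
    obtain ⟨r, hr, -⟩ := X.sheaf.existsUnique_gluing' U ⊤ (fun i => homOfLE le_top)
      (le_of_eq hU.symm) c hcomp
    exact ⟨r, hr⟩
  refine ⟨r, fun V x => ?_⟩
  refine res_ext (fun i => V ⊓ U i) (fun _ => inf_le_left) (le_iSup_inf hU V) fun i => ?_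
  obtain ⟨a, ha⟩ := (hs i).exists_coeff (inf_le_right : V ⊓ U i ≤ U i) (res L inf_le_left x)
  rw [← app_res, res_smul, resX_resX, ha, Scheme.Modules.Hom.app_smul, app_res, hc i,
    res_self, res_smul, ← hr i, resX_resX, smul_comm]

/-- On a proper integral scheme over an algebraically closed field every global function is a
constant. -/
theorem toGlobal_surjective (k : Type u) [Field k] [IsAlgClosed k]
    (f : X ⟶ Spec (CommRingCat.of k)) [IsIntegral X] [UniversallyClosed f]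
    [LocallyOfFiniteType f] : Function.Surjective (Coh.toGlobal f) := by
  let e := (Scheme.ΓSpecIso (CommRingCat.of k)).symm.commRingCatIsoToRingEquiv
  let F : k →+* Γ(X, ⊤) := f.appTop.hom.comp e.toRingHom
  have hF : F.IsIntegral :=
    RingHom.Finite.to_isIntegral
      (RingHom.Finite.comp (finite_appTop_of_universallyClosed k f)
        (RingHom.Finite.of_surjective _ e.surjective))
  letI : Algebra k Γ(X, ⊤) := F.toAlgebra
  haveI : IsDomain Γ(X, ⊤) := (isField_of_universallyClosed k f).isDomain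
  haveI : Algebra.IsIntegral k Γ(X, ⊤) := ⟨hF⟩
  exact (IsAlgClosed.algebraMap_bijective_of_isIntegral (k := k) (K := Γ(X, ⊤))).2

/-- On a proper integral scheme over an algebraically closed field, a nonzero endomorphism of an
invertible module is an isomorphism. -/
theorem isIso_of_ne_zero_end (k : Type u) [Field k] [IsAlgClosed k]
    (f : X ⟶ Spec (CommRingCat.of k)) [IsIntegral X] [UniversallyClosed f]
    [LocallyOfFiniteType f] {L : X.Modules} (hL : PicF.IsInvertible L) (φ : L ⟶ L) (hφ : φ ≠ 0) :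
    IsIso φ := by
  obtain ⟨r, hr⟩ := exists_eq_smul_of_isInvertible hL φ
  obtain ⟨c, rfl⟩ := toGlobal_surjective k f r
  have hc : c ≠ 0 := by
    rintro rfl
    apply hφ
    ext V x
    have e : resX X (le_top : V ≤ ⊤) (Coh.toGlobal f 0) = 0 := by
      rw [map_zero (Coh.toGlobal f)]; exact map_zero _
    rw [hr, e, zero_smul]
    rfl
  have hu : ∀ V : X.Opens, IsUnit (resX X (le_top : V ≤ ⊤) (Coh.toGlobal f c)) := fun V =>
    ((Ne.isUnit hc).map (Coh.toGlobal f)).map _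
  rw [Scheme.Modules.Hom.isIso_iff_isIso_app]
  intro V
  rw [ConcreteCategory.isIso_iff_bijective]
  have : (φ.app V : Γ(L, V) → Γ(L, V)) = fun x => resX X le_top (Coh.toGlobal f c) • x :=
    funext fun x => hr V x
  rw [this]
  obtain ⟨a, ha⟩ := hu V
  rw [← ha]
  exact ⟨fun x y h => by simpa [smul_smul] using congrArg (fun z => (↑a⁻¹ : Γ(X, V)) • z) h,
    fun y => ⟨(↑a⁻¹ : Γ(X, V)) • y, by simp [smul_smul]⟩⟩

/-- An invertible module on a nonempty scheme is nonzero. -/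
theorem id_ne_zero_of_isInvertible [IsIntegral X] {L : X.Modules} (hL : PicF.IsInvertible L) :
    𝟙 L ≠ 0 := by
  intro h
  obtain ⟨U, s, hU, hx, hs⟩ := exists_gen_cover hL
  obtain ⟨x⟩ : Nonempty X := inferInstance
  haveI : Nonempty (U x) := ⟨⟨x, hx x⟩⟩
  have h0 : s x = 0 := congr($(h).app (U x) (s x))
  refine zero_ne_one (α := Γ(X, U x)) ((hs x).smul_inj le_rfl ?_)
  rw [res_self, h0, smul_zero, smul_zero]

section KrullSchmidt

variable {C : Type*} [Category C] [Preadditive C] [HasBinaryBiproducts C]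

/-- If a line `A ⟶ B ⟶ A` composes to an isomorphism, nonzero endomorphisms of `B` are isomorphisms
and `A` is nonzero, then `A ⟶ B` is an isomorphism. -/
theorem isIso_of_isIso_comp {A B : C} (hA : 𝟙 A ≠ 0) (hB : ∀ φ : B ⟶ B, φ ≠ 0 → IsIso φ)
    (f : A ⟶ B) (g : B ⟶ A) [IsIso (f ≫ g)] : IsIso f := by
  have hgf : g ≫ f ≠ 0 := fun h => hA <| by
    have h0 : (f ≫ g) ≫ (f ≫ g) = 0 := by
      rw [Category.assoc, ← Category.assoc g f g, h, zero_comp, comp_zero]
    rw [← cancel_epi ((f ≫ g) ≫ (f ≫ g)), Category.comp_id, comp_zero, h0]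
  haveI := hB _ hgf
  haveI : IsSplitMono f := IsSplitMono.mk' ⟨g ≫ inv (f ≫ g), by rw [← Category.assoc, IsIso.hom_inv_id]⟩
  haveI : IsSplitEpi f := IsSplitEpi.mk' ⟨inv (g ≫ f) ≫ g, by rw [Category.assoc, IsIso.inv_hom_id]⟩
  exact isIso_of_mono_of_isSplitEpi f

/-- Krull–Schmidt for two summands whose nonzero endomorphisms are isomorphisms. -/
theorem krullSchmidt_two {L₁ L₂ M₁ M₂ : C} (h1 : 𝟙 L₁ ≠ 0)
    (hL : ∀ φ : L₁ ⟶ L₁, φ ≠ 0 → IsIso φ) (hM₁ : ∀ φ : M₁ ⟶ M₁, φ ≠ 0 → IsIso φ)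
    (hM₂ : ∀ φ : M₂ ⟶ M₂, φ ≠ 0 → IsIso φ) (e : L₁ ⊞ L₂ ≅ M₁ ⊞ M₂) :
    (Nonempty (L₁ ≅ M₁) ∧ Nonempty (L₂ ≅ M₂)) ∨ (Nonempty (L₁ ≅ M₂) ∧ Nonempty (L₂ ≅ M₁)) := by
  have hsum : (biprod.inl ≫ e.hom ≫ biprod.fst) ≫ (biprod.inl ≫ e.inv ≫ biprod.fst) +
      (biprod.inl ≫ e.hom ≫ biprod.snd) ≫ (biprod.inr ≫ e.inv ≫ biprod.fst) = 𝟙 L₁ := by
    simp only [Category.assoc]
    rw [← Preadditive.comp_add, ← Preadditive.comp_add]
    have t : biprod.fst ≫ biprod.inl ≫ e.inv ≫ biprod.fst +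
        biprod.snd ≫ biprod.inr ≫ e.inv ≫ biprod.fst = e.inv ≫ biprod.fst := by
      rw [← Category.assoc, ← Category.assoc (biprod.snd), ← Preadditive.add_comp, biprod.total,
        Category.id_comp]
    rw [t]
    simp
  by_cases h : (biprod.inl ≫ e.hom ≫ biprod.fst) ≫ (biprod.inl ≫ e.inv ≫ biprod.fst) = 0
  · right
    rw [h, zero_add] at hsum
    haveI : IsIso ((biprod.inl ≫ e.hom ≫ biprod.snd) ≫ (biprod.inr ≫ e.inv ≫ biprod.fst)) :=
      hsum.symm ▸ inferInstance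
    haveI := isIso_of_isIso_comp h1 hM₂ (biprod.inl ≫ e.hom ≫ biprod.snd)
      (biprod.inr ≫ e.inv ≫ biprod.fst)
    haveI : IsIso (biprod.inl ≫ (e ≪≫ biprod.braiding M₁ M₂).hom ≫ biprod.fst) := by
      have t : biprod.inl ≫ (e ≪≫ biprod.braiding M₁ M₂).hom ≫ biprod.fst =
          biprod.inl ≫ e.hom ≫ biprod.snd := by simp
      rw [t]
      infer_instance
    exact ⟨⟨asIso (biprod.inl ≫ e.hom ≫ biprod.snd)⟩,
      ⟨Biprod.isoElim (e ≪≫ biprod.braiding M₁ M₂)⟩⟩
  · left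
    haveI := hL _ h
    haveI := isIso_of_isIso_comp h1 hM₁ (biprod.inl ≫ e.hom ≫ biprod.fst)
      (biprod.inl ≫ e.inv ≫ biprod.fst)
    exact ⟨⟨asIso (biprod.inl ≫ e.hom ≫ biprod.fst)⟩, ⟨Biprod.isoElim e⟩⟩

end KrullSchmidt

end Groth.VectorBundles
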