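import Mathlib.RingTheory.AlgebraicIndependent.TranscendenceBasis
import Mathlib.RingTheory.Valuation.LocalSubring
import Mathlib.RingTheory.Nullstellensatz
import Mathlib.RingTheory.Localization.FractionRing
import Mathlib.RingTheory.MvPolynomial.WeightedHomogeneous
import Mathlib.RingTheory.MvPolynomial.Homogeneous

/-!
# Too few equations cannot cut down to the origin

Valuative criterion of integrality turned into a bound on the transcendence degree, and its
consequences for homogeneous forms and for bilinear forms over an algebraically closed field.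
-/

set_option autoImplicit false

namespace Groth.VectorBundles

open Finset MvPolynomial

variable {k : Type*} [Field k]

/-- The valuative criterion, in field form. -/
theorem card_le_of_forall_valuationSubring {L : Type*} [Field L] [Algebra k L]
    {μ ι : Type*} [Fintype μ] [Fintype ι] (l : μ → L) (x : ι → L)
    (hx : AlgebraicIndependent k x)
    (h : ∀ V : ValuationSubring L, (∀ c : k, algebraMap k L c ∈ V) → (∀ m, l m ∈ V) →
      ∀ j, x j ∈ V) :
    Fintype.card ι ≤ Fintype.card μ := by
  classical
  have halg : ∀ j, IsAlgebraic (Algebra.adjoin k (Set.range l)) (x j) := by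
    intro j
    have hmem : x j ∈ (integralClosure
        (Subring.closure (Set.range (algebraMap k L) ∪ Set.range l)) L).toSubring := by
      rw [← iInf_valuationSubring_superset, Subring.mem_iInf]
      intro V
      exact h V.1 (fun c => V.2 (Or.inl ⟨c, rfl⟩)) (fun m => V.2 (Or.inr ⟨m, rfl⟩)) j
    have hint : (Subring.closure (Set.range (algebraMap k L) ∪ Set.range l)).subtype.IsIntegralElem
        (x j) := hmem
    rw [← Algebra.adjoin_eq_ring_closure] at hint
    exact IsIntegral.isAlgebraic hint
  have hsub : Set.range x ⊆ (AlgebraicIndependent.matroid k L).closure (Set.range l) := by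
    rw [AlgebraicIndependent.matroid_closure_eq]
    rintro _ ⟨j, rfl⟩
    exact halg j
  have hind : (AlgebraicIndependent.matroid k L).Indep (Set.range x) :=
    AlgebraicIndependent.matroid_indep_iff.2 hx.to_subtype_range
  have h1 := hind.encard_le_eRk_of_subset hsub
  rw [Matroid.eRk_closure_eq] at h1
  have h2 := h1.trans (Matroid.eRk_le_encard _ _)
  replace h2 := le_trans hx.injective.encard_range h2
  simp only [ENat.card_eq_coe_fintype_card] at h2
  have h3 : (Set.range l).encard ≤ (Fintype.card μ : ℕ∞) := by
    have := Set.encard_image_le l Set.univ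
    simpa [Set.image_univ] using this
  exact_mod_cast h2.trans h3

/-- If powers of generators lie in the ideal of `l`, homogeneously, then the transcendence
degree of what they generate is at most the number of the `l`. -/
theorem card_le_of_pow_eq_sum {P : Type*} [CommRing P] [IsDomain P] [Algebra k P]
    {σ μ ι : Type*} [Fintype σ] [Fintype μ] [Fintype ι]
    (u : σ → P) (l : μ → P) (N M : ℕ) (hMN : M < N) (a : σ → μ → P)
    (heq : ∀ i, u i ^ N = ∑ m, l m * a i m)
    (hbound : ∀ (V : ValuationSubring (FractionRing P)),
      (∀ c : k, V.valuation (algebraMap k _ c) ≤ 1) → ∀ w : V.ValueGroup, 1 ≤ w →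
      (∀ i, V.valuation (algebraMap P _ (u i)) ≤ w) →
      ∀ i m, V.valuation (algebraMap P _ (a i m)) ≤ w ^ M)
    (x : ι → P) (hx : AlgebraicIndependent k x) (hxu : ∀ j, x j ∈ Algebra.adjoin k (Set.range u)) :
    Fintype.card ι ≤ Fintype.card μ := by
  classical
  refine card_le_of_forall_valuationSubring (k := k)
    (fun m => algebraMap P (FractionRing P) (l m)) (fun j => algebraMap P (FractionRing P) (x j))
    (hx.map' (f := IsScalarTower.toAlgHom k P (FractionRing P))
      (IsFractionRing.injective P (FractionRing P))) ?_
  intro V hk hl
  have hu : ∀ i, algebraMap P (FractionRing P) (u i) ∈ V := by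
    intro i
    obtain ⟨i₀, -, hmax⟩ := exists_max_image (univ : Finset σ)
      (fun i => V.valuation (algebraMap P (FractionRing P) (u i))) ⟨i, mem_univ i⟩
    rw [← ValuationSubring.valuation_le_one_iff]
    refine (hmax i (mem_univ i)).trans ?_
    by_contra hw
    rw [not_le] at hw
    set w := V.valuation (algebraMap P (FractionRing P) (u i₀)) with hw_def
    have hb := hbound V (fun c => (V.valuation_le_one_iff _).2 (hk c)) w hw.le
      (fun j => hmax j (mem_univ j)) i₀
    have hle : w ^ N ≤ w ^ M := by
      rw [hw_def, ← map_pow, ← map_pow, heq, map_sum]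
      refine Valuation.map_sum_le _ fun m _ => ?_
      rw [map_mul, map_mul]
      calc _ ≤ 1 * w ^ M := mul_le_mul' ((V.valuation_le_one_iff _).2 (hl m)) (hb m)
        _ = _ := by rw [one_mul]
    exact absurd hle (not_le.2 (pow_lt_pow_right₀ hw hMN))
  intro j
  have hxj := hxu j
  clear hx hxu
  revert hxj
  generalize x j = y
  intro hxj
  induction hxj using Algebra.adjoin_induction with
  | mem y hy => obtain ⟨i, rfl⟩ := hy; exact hu i
  | algebraMap c => rw [← IsScalarTower.algebraMap_apply]; exact hk c
  | add y z _ _ hy hz => rw [map_add]; exact add_mem hy hz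
  | mul y z _ _ hy hz => rw [map_mul]; exact mul_mem hy hz

/-- Fewer forms of positive degree than variables have a common zero other than the origin. -/
theorem card_vars_le_card_forms [IsAlgClosed k] {σ μ : Type*} [Fintype σ] [Fintype μ]
    (l : μ → MvPolynomial σ k) (e : ℕ) (he : 0 < e) (hl : ∀ m, (l m).IsHomogeneous e)
    (hzero : ∀ x : σ → k, (∀ m, eval x (l m) = 0) → x = 0) :
    Fintype.card σ ≤ Fintype.card μ := by
  classical
  have hrad : ∀ i : σ, ∃ N : ℕ, (X i : MvPolynomial σ k) ^ N ∈ Ideal.span (Set.range l) := by
    intro i
    have : (X i : MvPolynomial σ k) ∈ (Ideal.span (Set.range l)).radical := by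
      rw [← vanishingIdeal_zeroLocus_eq_radical (K := k)]
      intro x hx
      have : x = 0 := hzero x fun m => by
        simpa [← aeval_eq_eval] using hx (l m) (Ideal.subset_span ⟨m, rfl⟩)
      simp [this]
    exact this
  choose n hn using hrad
  set N := e + ∑ i, n i with hN
  have hmem : ∀ i : σ, (X i : MvPolynomial σ k) ^ N ∈ Ideal.span (Set.range l) := fun i =>
    Ideal.pow_mem_of_pow_mem _ (hn i)
      (le_add_left (single_le_sum (f := n) (fun _ _ => Nat.zero_le _) (mem_univ i)))
  choose a ha using fun i => Ideal.mem_span_range_iff_exists_fun.1 (hmem i)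
  refine card_le_of_pow_eq_sum (k := k) (fun i : σ => (X i : MvPolynomial σ k)) l N (N - e)
    (by omega) (fun i m => homogeneousComponent (N - e) (a i m)) ?_ ?_ (fun i => X i)
    (MvPolynomial.algebraicIndependent_X σ k) (fun i => Algebra.subset_adjoin ⟨i, rfl⟩)
  · intro i
    have h1 := congrArg (homogeneousComponent N) (ha i)
    rw [map_sum, homogeneousComponent_of_mem (isHomogeneous_X_pow i N), if_pos rfl] at h1
    rw [← h1]
    refine sum_congr rfl fun m _ => ?_
    conv_lhs => rw [← sum_homogeneousComponent (a i m)]
    rw [sum_mul, map_sum]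
    rw [sum_eq_single (N - e)]
    · rw [homogeneousComponent_of_mem
        ((homogeneousComponent_isHomogeneous (N - e) (a i m)).mul (hl m)), if_pos (by omega),
        mul_comm]
    · intro j _ hj
      rw [homogeneousComponent_of_mem ((homogeneousComponent_isHomogeneous j (a i m)).mul (hl m)),
        if_neg]
      omega
    · intro hj
      simp only [Finset.mem_range, not_lt] at hj
      rw [homogeneousComponent_eq_zero (N - e) (a i m) (by omega)]
      simp
  · intro V hk w _ hw i m
    generalize hp : homogeneousComponent (N - e) (a i m) = p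
    have hph : p.IsHomogeneous (N - e) := hp ▸ homogeneousComponent_isHomogeneous _ _
    rw [p.as_sum, map_sum]
    refine Valuation.map_sum_le _ fun d hd => ?_
    have hdeg : (∑ j ∈ d.support, d j) = N - e := by
      have := hph (mem_support_iff.1 hd)
      simpa [Finsupp.weight_apply, Finsupp.sum] using this
    rw [monomial_eq, map_mul, map_mul]
    calc _ ≤ 1 * w ^ (N - e) := by
          refine mul_le_mul' ?_ ?_
          · rw [← algebraMap_eq, ← IsScalarTower.algebraMap_apply]
            exact hk _
          · rw [Finsupp.prod, map_prod, map_prod, ← hdeg, ← prod_pow_eq_pow_sum]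
            refine prod_le_prod' fun j _ => ?_
            rw [map_pow, map_pow]
            exact pow_le_pow_left' (hw j) _
      _ = _ := one_mul _

end Groth.VectorBundles
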