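import Mathlib.Algebra.Category.ModuleCat.Ext.Finite
import Mathlib.LinearAlgebra.Dual.Lemmas
import Mathlib.RingTheory.LocalRing.Module
import Groth.Agent.Ega4Algebra1.RegularLocal

/-!
# Reflexive modules over regular local rings

A finite reflexive module is a second syzygy, hence free in dimension at most two.
-/

set_option autoImplicit false

universe u

open CategoryTheory

namespace Groth.VectorBundles

variable {A : Type u} [CommRing A]

/-- A finite dual over a Noetherian ring. -/
theorem finite_dual [IsNoetherianRing A] (M : Type u) [AddCommGroup M] [Module A M]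
    [Module.Finite A M] : Module.Finite A (Module.Dual A M) := by
  obtain ⟨n, π, hπ⟩ := Module.Finite.exists_fin' A M
  exact Module.Finite.of_injective π.dualMap (LinearMap.dualMap_injective_of_surjective hπ)

/-- A finite reflexive module over a Noetherian ring is a second syzygy. -/
theorem exists_syzygy_of_isReflexive [IsNoetherianRing A] (M : Type u) [AddCommGroup M]
    [Module A M] [Module.Finite A M] [Module.IsReflexive A M] :
    ∃ (a b : ℕ) (f : M →ₗ[A] (Fin a → A)) (g : (Fin a → A) →ₗ[A] (Fin b → A)),
      Function.Injective f ∧ LinearMap.range f = LinearMap.ker g := by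
  have := finite_dual (A := A) M
  obtain ⟨a, π, hπ⟩ := Module.Finite.exists_fin' A (Module.Dual A M)
  obtain ⟨b, k, hk⟩ := Module.Finite.exists_fin' A (LinearMap.ker π)
  let h : (Fin b → A) →ₗ[A] (Fin a → A) := (LinearMap.ker π).subtype ∘ₗ k
  have hh : LinearMap.range h = LinearMap.ker π := by
    rw [LinearMap.range_comp, LinearMap.range_eq_top.2 hk, Submodule.map_top,
      Submodule.range_subtype]
  let e₁ := LinearEquiv.piRing A A (Fin a) A
  let e₂ := LinearEquiv.piRing A A (Fin b) A
  refine ⟨a, b, e₁.toLinearMap ∘ₗ π.dualMap ∘ₗ Module.Dual.eval A M,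
    e₂.toLinearMap ∘ₗ h.dualMap ∘ₗ e₁.symm.toLinearMap, ?_, ?_⟩
  · exact e₁.injective.comp ((LinearMap.dualMap_injective_of_surjective hπ).comp
      (Module.bijective_dual_eval A M).1)
  · refine le_antisymm ?_ fun v hv => ?_
    · rintro _ ⟨m, rfl⟩
      rw [LinearMap.mem_ker]
      simp only [LinearMap.comp_apply, LinearEquiv.coe_coe, LinearEquiv.symm_apply_apply]
      rw [LinearEquiv.map_eq_zero_iff]
      refine LinearMap.ext fun u => ?_
      have : π (h u) = 0 := hh.le (LinearMap.mem_range_self h u)
      simp [LinearMap.dualMap_apply, this]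
    · rw [LinearMap.mem_ker] at hv
      simp only [LinearMap.comp_apply, LinearEquiv.coe_coe, LinearEquiv.map_eq_zero_iff] at hv
      have hker : LinearMap.ker π ≤ LinearMap.ker (e₁.symm v) := by
        rw [← hh]
        rintro _ ⟨u, rfl⟩
        exact LinearMap.congr_fun hv u
      obtain ⟨Λ, hΛ⟩ : ∃ Λ : Module.Dual A (Module.Dual A M), Λ ∘ₗ π = e₁.symm v :=
        ⟨(LinearMap.ker π).liftQ (e₁.symm v) hker ∘ₗ
          (π.quotKerEquivOfSurjective hπ).symm.toLinearMap, LinearMap.ext fun u => by
            have : (π.quotKerEquivOfSurjective hπ).symm (π u) = Submodule.Quotient.mk u :=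
              (LinearEquiv.symm_apply_eq _).2 rfl
            simp only [LinearMap.comp_apply, LinearEquiv.coe_coe]
            rw [this, Submodule.liftQ_apply]⟩
      obtain ⟨m, hm⟩ := (Module.bijective_dual_eval A M).2 Λ
      refine ⟨m, e₁.symm.injective ?_⟩
      simp only [LinearMap.comp_apply, LinearEquiv.coe_coe, LinearEquiv.symm_apply_apply]
      rw [← hΛ, hm]
      rfl

/-- A finite reflexive module over a regular local ring of dimension at most two is free. -/
theorem free_of_isReflexive_of_dim_le_two [IsRegularLocalRing A] (hdim : ringKrullDim A ≤ 2)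
    (M : Type u) [AddCommGroup M] [Module A M] [Module.Finite A M] [Module.IsReflexive A M] :
    Module.Free A M := by
  have hn : (IsLocalRing.maximalIdeal A).spanFinrank ≤ 2 := by
    rw [← IsRegularLocalRing.spanFinrank_maximalIdeal] at hdim
    exact_mod_cast hdim
  obtain ⟨a, b, f, g, hf, hfg⟩ := exists_syzygy_of_isReflexive (A := A) M
  have hC : HasProjectiveDimensionLT (ModuleCat.of A ((Fin b → A) ⧸ LinearMap.range g)) 3 :=
    @hasProjectiveDimensionLT_of_ge _ _ _ _ _ 3 (by omega)
      (Groth.Ega4Algebra1.pdLT_of_isRegularLocalRing A _ rfl ((Fin b → A) ⧸ LinearMap.range g))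
  have hS₁ := LinearMap.shortExact_shortComplexKer (Submodule.mkQ_surjective (LinearMap.range g))
  have hI : HasProjectiveDimensionLT (ModuleCat.of A (LinearMap.range g)) 2 := by
    have h := (hS₁.hasProjectiveDimensionLT_X₃_iff 1
      (ModuleCat.projective_of_free (Pi.basisFun A (Fin b)))).1 hC
    exact @hasProjectiveDimensionLT_of_iso _ _ _ _ _
      (LinearEquiv.ofEq _ _ (Submodule.ker_mkQ _)).toModuleIso 2 h
  have hS₂ := LinearMap.shortExact_shortComplexKer g.surjective_rangeRestrict
  have hK := (hS₂.hasProjectiveDimensionLT_X₃_iff 0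
    (ModuleCat.projective_of_free (Pi.basisFun A (Fin a)))).1 hI
  have : Module.Projective A (LinearMap.ker g.rangeRestrict) :=
    (IsProjective.iff_projective (R := A) _).2 (projective_iff_hasProjectiveDimensionLT_one.2 hK)
  have : Module.Projective A M := Module.Projective.of_equiv
    ((LinearEquiv.ofEq _ _ (show LinearMap.ker g.rangeRestrict = LinearMap.range f by
      rw [LinearMap.ker_rangeRestrict, hfg])).trans (LinearEquiv.ofInjective f hf).symm)
  exact Module.free_of_flat_of_isLocalRing

end Groth.VectorBundles
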