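import Mathlib.Algebra.Category.ModuleCat.ProjectiveDimension
import Mathlib.Algebra.Category.ModuleCat.Ext.Finite
import Mathlib.RingTheory.Regular.ProjectiveDimension
import Mathlib.RingTheory.LocalRing.Module

/-!
# Finite modules of projective dimension at most one, and Ext against the ring
-/

set_option autoImplicit false
set_option linter.style.haveILetI false

universe u

open CategoryTheory Abelian

namespace Groth.VectorBundles

variable {A : Type u} [CommRing A]

/-- An extension class into a finite free module vanishes if all classes into the ring vanish. -/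
theorem ext_eq_zero_of_free {M K : ModuleCat.{u} A} [Module.Free A K] [Module.Finite A K] (n : ℕ)
    (h : Subsingleton (Ext M (ModuleCat.of A A) n)) (x : Ext M K n) : x = 0 := by
  let b := Module.Free.chooseBasis A K
  let π := fun i => (ModuleCat.ofHom (b.coord i) : K ⟶ ModuleCat.of A A)
  let ι := fun i => (ModuleCat.ofHom (LinearMap.toSpanSingleton A K (b i)) : ModuleCat.of A A ⟶ K)
  have hid : ∑ i, π i ≫ ι i = 𝟙 K := by
    refine ModuleCat.hom_ext (LinearMap.ext fun v => ?_)
    simp [π, ι, b.sum_repr v]
  calc x = x.comp (Ext.mk₀ (𝟙 K)) (add_zero n) := (Ext.comp_mk₀_id x).symm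
    _ = ∑ i, x.comp (Ext.mk₀ (π i ≫ ι i)) (add_zero n) := by
      rw [← hid, Ext.mk₀_sum, Ext.comp_sum]
    _ = 0 := Finset.sum_eq_zero fun i _ => by
      rw [← Ext.mk₀_comp_mk₀, ← Ext.comp_assoc_of_second_deg_zero,
        Subsingleton.elim (x.comp (Ext.mk₀ (π i)) (add_zero n)) 0, Ext.zero_comp]

/-- Over a Noetherian local ring, a finite module of projective dimension at most one with vanishing
first Ext into the ring is free. -/
theorem free_of_hasProjectiveDimensionLT_two [IsNoetherianRing A] [IsLocalRing A]
    (M : ModuleCat.{u} A) [Module.Finite A M] (hpd : HasProjectiveDimensionLT M 2)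
    (h : Subsingleton (Ext M (ModuleCat.of A A) 1)) : Module.Free A M := by
  obtain ⟨P, _, _, _, _, f, hf⟩ := Module.exists_finite_presentation A M
  have hS := LinearMap.shortExact_shortComplexKer hf
  set S := f.shortComplexKer
  have : Module.Free A S.X₂ := inferInstanceAs (Module.Free A P)
  haveI : Projective S.X₂ :=
    ModuleCat.projective_of_free (Module.Free.chooseBasis A S.X₂)
  have h1 : HasProjectiveDimensionLT S.X₁ 1 :=
    hS.hasProjectiveDimensionLT_X₁ 1 inferInstance hpd
  haveI : Module.Projective A S.X₁ :=
    (IsProjective.iff_projective (R := A) S.X₁).2 (projective_iff_hasProjectiveDimensionLT_one.2 h1)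
  haveI : Module.Finite A S.X₂ := inferInstanceAs (Module.Finite A P)
  haveI : Module.Finite A S.X₁ := inferInstanceAs (Module.Finite A (LinearMap.ker f))
  haveI : Module.Free A S.X₁ := Module.free_of_flat_of_isLocalRing
  have hz : hS.extClass = 0 := ext_eq_zero_of_free 1 h _
  obtain ⟨s, hs⟩ := Ext.covariant_sequence_exact₃ (X := S.X₃) hS (Ext.mk₀ (𝟙 S.X₃)) (zero_add 1)
    (by rw [hz, Ext.comp_zero])
  obtain ⟨s, rfl⟩ := Ext.homEquiv₀.symm.surjective s
  have hsec : s ≫ S.g = 𝟙 S.X₃ := Ext.homEquiv₀.symm.injective (by simpa using hs)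
  haveI : Module.Projective A M :=
    Module.Projective.of_split (M := P) s.hom f
      (LinearMap.ext fun v => congr($(hsec) v))
  exact Module.free_of_flat_of_isLocalRing

/-- Over a Noetherian local ring, for a finite module of projective dimension at most `n + 1`,
vanishing of `Ext^{n+1}` into the ring lowers the bound to `n`. -/
theorem hasProjectiveDimensionLT_of_subsingleton_ext [IsNoetherianRing A] [IsLocalRing A]
    (M : ModuleCat.{u} A) [Module.Finite A M] (n : ℕ) (hpd : HasProjectiveDimensionLT M (n + 2))
    (h : Subsingleton (Ext M (ModuleCat.of A A) (n + 1))) :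
    HasProjectiveDimensionLT M (n + 1) := by
  induction n generalizing M with
  | zero =>
    haveI := free_of_hasProjectiveDimensionLT_two M hpd h
    haveI : Projective M := ModuleCat.projective_of_free (Module.Free.chooseBasis A M)
    infer_instance
  | succ n ih =>
    obtain ⟨P, _, _, _, _, f, hf⟩ := Module.exists_finite_presentation A M
    have hS := LinearMap.shortExact_shortComplexKer hf
    set S := f.shortComplexKer
    have : Module.Free A S.X₂ := inferInstanceAs (Module.Free A P)
    have hP : Projective S.X₂ :=
      ModuleCat.projective_of_free (Module.Free.chooseBasis A S.X₂)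
    haveI : Module.Finite A S.X₂ := inferInstanceAs (Module.Finite A P)
    haveI : Module.Finite A S.X₁ := inferInstanceAs (Module.Finite A (LinearMap.ker f))
    refine (hS.hasProjectiveDimensionLT_X₃_iff n hP).2
      (ih S.X₁ ((hS.hasProjectiveDimensionLT_X₃_iff (n + 1) hP).1 hpd) ⟨fun a b => ?_⟩)
    suffices key : ∀ x : Ext S.X₁ (ModuleCat.of A A) (n + 1), x = 0 by rw [key a, key b]
    intro x
    obtain ⟨x₂, rfl⟩ := Ext.contravariant_sequence_exact₁ hS _ x (add_comm 1 (n + 1))
      (h.elim _ _)
    rw [x₂.eq_zero_of_hasProjectiveDimensionLT 1 (by lia), Ext.comp_zero]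

end Groth.VectorBundles
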