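import Mathlib.RingTheory.AlgebraicIndependent.TranscendenceBasis
import Mathlib.RingTheory.NoetherNormalization
import Mathlib.RingTheory.KrullDimension.Polynomial
import Mathlib.RingTheory.KrullDimension.Field
import Groth.Agent.SGA7.Forms
import Groth.Agent.S5763

/-!
# Independent generators of an affine domain and a lower bound on Hilbert functions
-/

set_option autoImplicit false

universe u

namespace Groth.VectorBundles

open MvPolynomial

variable {k : Type u} [Field k]

/-- Generators of an affine domain of dimension `r` contain `r` algebraically independent ones. -/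
theorem exists_algIndep_of_ringKrullDim {R : Type u} [CommRing R] [IsDomain R] [Algebra k R]
    {σ : Type*} [Finite σ] (v : σ → R) (hv : Algebra.adjoin k (Set.range v) = ⊤) (r : ℕ)
    (h : ringKrullDim R = (r : ℕ)) :
    ∃ j : Fin r → σ, AlgebraicIndependent k (v ∘ j) := by
  classical
  have : Algebra.FiniteType k R := ⟨⟨(Set.finite_range v).toFinset, by simpa using hv⟩⟩
  obtain ⟨s, g, hg, hfin⟩ := exists_finite_inj_algHom_of_fg k R
  algebraize [g.toRingHom]
  have : Module.Finite (MvPolynomial (Fin s) k) R := hfin
  have : Algebra.IsIntegral (MvPolynomial (Fin s) k) R :=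
    Algebra.IsIntegral.of_finite _ _
  have hs := (Groth.Agent.S5763.result (MvPolynomial (Fin s) k) R).2 hg
  rw [h, MvPolynomial.ringKrullDim_of_isNoetherianRing, ringKrullDim_eq_zero_of_field, zero_add,
    Nat.card_fin] at hs
  have hrs : r = s := by exact_mod_cast hs
  subst hrs
  have hx : AlgebraicIndependent k (fun i => g (X i)) :=
    (MvPolynomial.algebraicIndependent_X (Fin r) k).map' hg
  have hsub : Set.range (fun i => g (X i)) ⊆
      (AlgebraicIndependent.matroid k R).closure (Set.range v) := by
    rw [AlgebraicIndependent.matroid_closure_eq]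
    intro z _
    exact isAlgebraic_algebraMap (⟨z, by rw [hv]; trivial⟩ : Algebra.adjoin k (Set.range v))
  have hind : (AlgebraicIndependent.matroid k R).Indep (Set.range fun i => g (X i)) :=
    AlgebraicIndependent.matroid_indep_iff.2 hx.to_subtype_range
  have h1 := hind.encard_le_eRk_of_subset hsub
  rw [Matroid.eRk_closure_eq] at h1
  obtain ⟨B, hB⟩ := (AlgebraicIndependent.matroid k R).exists_isBasis' (Set.range v)
  rw [← hB.encard_eq_eRk] at h1
  replace h1 := le_trans hx.injective.encard_range h1
  simp only [ENat.card_eq_coe_fintype_card, Fintype.card_fin] at h1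
  obtain ⟨t, htB, ht⟩ := Set.exists_subset_encard_eq h1
  have hti : AlgebraicIndependent k (fun x : t => (x : R)) :=
    AlgebraicIndependent.matroid_indep_iff.1 (hB.indep.subset htB)
  have hfin' : t.Finite := Set.finite_of_encard_eq_coe ht
  have hcard : t.ncard = r := by rw [Set.ncard_def, ht, ENat.toNat_natCast]
  have := hfin'.fintype
  let e : Fin r ≃ t := (Fintype.equivFinOfCardEq
    (by rw [← hcard, Set.ncard_eq_toFinset_card', Set.toFinset_card])).symm
  choose j hj using fun i => hB.subset (htB (e i).2)
  refine ⟨j, ?_⟩
  have : v ∘ j = (fun x : t => (x : R)) ∘ e := funext hj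
  rw [this]
  exact hti.comp _ e.injective

theorem le_choose_of_pos_of_lt : ∀ (n k : ℕ), 0 < k → k < n → n ≤ n.choose k
  | 0, _, _, h => absurd h (Nat.not_lt_zero _)
  | n + 1, 0, h, _ => absurd h (Nat.lt_irrefl 0)
  | n + 1, k + 1, _, h => by
    rw [Nat.choose_succ_succ']
    rcases Nat.lt_or_ge (k + 1) n with h' | h'
    · have := le_choose_of_pos_of_lt n (k + 1) (Nat.succ_pos _) h'
      have := Nat.choose_pos (show k ≤ n by omega)
      omega
    · have hn : n = k + 1 := by omega
      subst hn
      simp

/-- The degree-`D` piece of a quotient of the polynomial ring by a prime `P` has dimension at least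
the number of monomials in `dim` variables. -/
theorem finrank_add_le_of_isPrime (m r D : ℕ) (P : Ideal (MvPolynomial (Fin (m + 1)) k))
    [P.IsPrime] (h : ringKrullDim (MvPolynomial (Fin (m + 1)) k ⧸ P) = ((r + 1 : ℕ) : WithBot ℕ∞)) :
    (r + D).choose D +
        Module.finrank k ↥(CohB1.polyGrading m k D ⊓ Submodule.restrictScalars k P)
      ≤ Module.finrank k (LefPen.Form m k D) := by
  let q := Ideal.Quotient.mkₐ k P
  have hv : Algebra.adjoin k (Set.range fun i => q (X i)) = ⊤ := by
    rw [show (fun i => q (X i)) = q ∘ X from rfl, Set.range_comp, ← AlgHom.map_adjoin,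
      MvPolynomial.adjoin_range_X, Algebra.map_top, AlgHom.range_eq_top]
    exact Ideal.Quotient.mkₐ_surjective k P
  obtain ⟨j, hj⟩ := exists_algIndep_of_ringKrullDim (fun i => q (X i)) hv (r + 1) h
  let ψ : LefPen.Form m k D →ₗ[k] MvPolynomial (Fin (m + 1)) k ⧸ P :=
    q.toLinearMap ∘ₗ (CohB1.polyGrading m k D).subtype
  let χ : LefPen.Form r k D →ₗ[k] LefPen.Form m k D :=
    LinearMap.codRestrict _ ((rename j).toLinearMap ∘ₗ (CohB1.polyGrading r k D).subtype)
      fun G => IsHomogeneous.rename_isHomogeneous G.2
  have hinj : Function.Injective (ψ ∘ₗ χ) := by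
    intro a b hab
    refine Subtype.ext (hj ?_)
    have key : (q.comp (rename j)) = aeval ((fun i => q (X i)) ∘ j) :=
      MvPolynomial.algHom_ext fun i => by simp
    rw [← key]
    exact hab
  have h1 : (r + D).choose D ≤ Module.finrank k (LinearMap.range ψ) := by
    rw [← Groth.SGA7.Forms.finrank_form r k D, ← LinearMap.finrank_range_of_inj hinj]
    exact Submodule.finrank_mono (LinearMap.range_comp_le_range χ ψ)
  have h2 : Module.finrank k ↥(CohB1.polyGrading m k D ⊓ Submodule.restrictScalars k P) ≤
      Module.finrank k (LinearMap.ker ψ) := by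
    let e : ↥(CohB1.polyGrading m k D ⊓ Submodule.restrictScalars k P) →ₗ[k] LefPen.Form m k D :=
      Submodule.inclusion inf_le_left
    have he : Function.Injective e := Submodule.inclusion_injective _
    rw [← LinearMap.finrank_range_of_inj he]
    refine Submodule.finrank_mono ?_
    rintro _ ⟨x, rfl⟩
    exact Ideal.Quotient.eq_zero_iff_mem.2 x.2.2
  have h3 := ψ.finrank_range_add_finrank_ker
  omega

end Groth.VectorBundles
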