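import Groth.Agent.VectorBundles.FTStalk

/-!
# Finitely many relations between generators of a finitely presented module
-/

set_option autoImplicit false

universe u

open CategoryTheory Limits AlgebraicGeometry Opposite TopologicalSpace
open AlgebraicGeometry.Scheme.Modules (restrictFunctor overEquiv overFunctorEquiv)

namespace Groth.VectorBundles.RefHullStalk

open Groth.QCohMod

variable {X : Scheme.{u}}

set_option backward.isDefEq.respectTransparency false in
set_option maxHeartbeats 1600000 in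
/-- A module of finite presentation has finite presentations near every point. -/
theorem exists_presentation_of_isFP (M : X.Modules) (hM : CohB1.IsFP M) (x : X) :
    ∃ (V : X.Opens) (_ : x ∈ V) (p : (M.restrict V.ι).Presentation), p.IsFinite := by
  obtain ⟨σ, hσ⟩ := hM.exists_quasicoherentData
  have hcov : (⨆ i, σ.X i) = ⊤ := (Opens.coversTop_iff (U := σ.X)).mp σ.coversTop
  obtain ⟨i, hi⟩ := Opens.mem_iSup.mp (hcov.ge (Set.mem_univ x) : x ∈ ⨆ i, σ.X i)
  have : PreservesColimitsOfSize.{u, u} (overEquiv (σ.X i)).functor := inferInstance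
  refine ⟨σ.X i, hi, SheafOfModules.Presentation.ofIsIso.{u, u, u}
    ((overFunctorEquiv (σ.X i)).app M).hom
    ((σ.presentation i).map (overEquiv (σ.X i)).functor (overUnitIso (σ.X i)).symm), ⟨?_, ?_⟩⟩
  · exact ⟨(hσ.isFinite_presentation i).isFiniteType_generators.finite⟩
  · exact ⟨(hσ.isFinite_presentation i).isFiniteType_relations.finite⟩

/-- A finite presentation gives generators and relations on all stalks. -/
theorem exists_rels_of_epi {M : X.Modules} {ι κ : Type u} [Fintype ι] [Fintype κ]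
    (π : (∐ fun _ : ι => Coh.structureModule X) ⟶ M) [Epi π]
    (ρ : (∐ fun _ : κ => Coh.structureModule X) ⟶ kernel π) [Epi ρ] :
    ∃ rel : κ → ι → Γ(X, ⊤), Rels M (fun i => π.app ⊤
      ((Sigma.ι (fun _ : ι => Coh.structureModule X) i).app ⊤ (oneSec ⊤))) rel := by
  classical
  let p : ι → ((∐ fun _ : ι => Coh.structureModule X) ⟶ Coh.structureModule X) :=
    fun i => Sigma.desc fun j => if i = j then 𝟙 _ else 0
  let g : κ → Γ((∐ fun _ : ι => Coh.structureModule X), (⊤ : X.Opens)) := fun j =>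
    (kernel.ι π).app ⊤ (ρ.app ⊤ ((Sigma.ι (fun _ : κ => Coh.structureModule X) j).app ⊤ (oneSec ⊤)))
  have hp : ∑ i, p i ≫ Sigma.ι (fun _ : ι => Coh.structureModule X) i = 𝟙 _ := by
    refine Sigma.hom_ext _ _ fun j => ?_
    rw [Preadditive.comp_sum, Finset.sum_eq_single j]
    · simp [p]
    · intro i _ hij
      simp [p, hij]
    · simp
  refine ⟨fun j i => (show Γ(X, ⊤) from (p i).app ⊤ (g j)), fun j => ?_, fun y hy c hc => ?_⟩
  · have h0 : π.app ⊤ (g j) = 0 := by
      simp only [g]
      rw [← ConcreteCategory.comp_apply, ← Scheme.Modules.Hom.comp_app, kernel.condition]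
      rfl
    refine Eq.trans ?_ h0
    conv_rhs => rw [show g j = (𝟙 (∐ fun _ : ι => Coh.structureModule X) :
      _ ⟶ _).app ⊤ (g j) from rfl, ← hp, app_sum]
    rw [map_sum]
    refine Finset.sum_congr rfl fun i _ => ?_
    rw [Scheme.Modules.Hom.comp_app, ConcreteCategory.comp_apply]
    conv_rhs => rw [← structureModule_eq_smul_one ((p i).app ⊤ (g j)),
      Scheme.Modules.Hom.app_smul, Scheme.Modules.Hom.app_smul]
  let L := fun i => CohTwo.stalkLin (Sigma.ι (fun _ : ι => Coh.structureModule X) i) y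
  let z : ((∐ fun _ : ι => Coh.structureModule X)).presheaf.stalk y := ∑ i, c i • L i (one y)
  have hLone : ∀ i, L i (one y) = germ _ y (hy : y ∈ (⊤ : X.Opens))
      ((Sigma.ι (fun _ : ι => Coh.structureModule X) i).app ⊤ (oneSec ⊤)) := fun i =>
    CohTwo.stalkLin_germ _ y (hy : y ∈ (⊤ : X.Opens)) (oneSec ⊤)
  have hz : CohTwo.stalkLin π y z = 0 := by
    rw [map_sum, ← hc]
    refine Finset.sum_congr rfl fun i _ => ?_
    rw [map_smul, hLone]
    exact congrArg (c i • ·) (CohTwo.stalkLin_germ π y _ _)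
  let S : ShortComplex X.Modules := ShortComplex.mk (kernel.ι π) π (kernel.condition π)
  obtain ⟨w, hw⟩ : ∃ w : (kernel π).presheaf.stalk y, CohTwo.stalkLin (kernel.ι π) y w = z :=
    (ShortComplex.ab_exact_iff _).1
    ((exact_iff_stalk S).1 (ShortComplex.exact_kernel π) y) z hz
  have hwS : w ∈ Submodule.span (X.presheaf.stalk y) (Set.range fun j =>
      germ (kernel π) y (hy : y ∈ (⊤ : X.Opens))
        (ρ.app ⊤ ((Sigma.ι (fun _ : κ => Coh.structureModule X) j).app ⊤ (oneSec ⊤)))) :=
    (spans_of_epi ρ y hy).ge trivial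
  obtain ⟨d, hd⟩ := (Submodule.mem_span_range_iff_exists_fun _).1 hwS
  refine (Submodule.mem_span_range_iff_exists_fun _).2 ⟨d, funext fun i => ?_⟩
  refine (oneEquiv y).injective ?_
  have hz' : z = ∑ j, d j • germ _ y (hy : y ∈ (⊤ : X.Opens)) (g j) := by
    rw [← hw, ← hd]
    rw [map_sum]
    refine Finset.sum_congr rfl fun j _ => ?_
    rw [map_smul]
    exact congrArg (d j • ·) (CohTwo.stalkLin_germ (kernel.ι π) y _ _)
  have hpi := congrArg (CohTwo.stalkLin (p i) y) hz'
  simp only [z, map_sum, map_smul] at hpi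
  rw [Finset.sum_eq_single i] at hpi
  · simp only [Finset.sum_apply, Pi.smul_apply, smul_eq_mul, oneEquiv_apply, Finset.sum_smul]
    have hii : CohTwo.stalkLin (p i) y (L i (one y)) = one y := by
      rw [← CohTwo.stalkLin_comp]
      simp [p, CohTwo.stalkLin_id]
    rw [hii] at hpi
    rw [hpi]
    refine Finset.sum_congr rfl fun j _ => ?_
    rw [mul_smul]
    refine congrArg (d j • ·) ?_
    exact (germ_structureModule y _ _).symm.trans (CohTwo.stalkLin_germ (p i) y _ _).symm
  · intro k _ hk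
    rw [← CohTwo.stalkLin_comp]
    simp [p, Ne.symm hk, CohTwo.stalkLin_zero]
  · simp

/-- Transfer of relations from an open subscheme. -/
theorem rels_of_restrict (M : X.Modules) {V : X.Opens} {ι κ : Type u} [Fintype ι] [Fintype κ]
    {t : ι → Γ(M.restrict V.ι, ⊤)} {rel : κ → ι → Γ((V : Scheme.{u}), ⊤)}
    (h : Rels (M.restrict V.ι) t rel) :
    Rels M (fun i => Groth.QCohMod.res M (show V ≤ V.ι ''ᵁ ⊤ by simp)
        ((M.restrictAppIso V.ι ⊤).hom (t i)))
      (fun j i => resFun X (show V ≤ V.ι ''ᵁ ⊤ by simp) ((V.ι.appIso ⊤).inv (rel j i))) := by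
  refine ⟨fun j => ?_, fun y hy c hc => ?_⟩
  · have h0 := congrArg (fun m => Groth.QCohMod.res M (show V ≤ V.ι ''ᵁ ⊤ by simp)
      ((M.restrictAppIso V.ι ⊤).hom m)) (h.1 j)
    simp only [map_sum, map_zero] at h0
    refine Eq.trans ?_ h0
    refine Finset.sum_congr rfl fun i _ => ?_
    erw [Scheme.Modules.smul_restrictAppIso_hom_apply V.ι M]
    erw [res_smul]
  let y' : (V : Scheme.{u}) := ⟨y, hy⟩
  let σ := V.stalkIso y'
  let e : (M.restrict V.ι).presheaf.stalk y' ≅ M.presheaf.stalk y :=
    (Scheme.Modules.restrictStalkNatIso V.ι y').app M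
  have key : ∀ (U : (V : Scheme.{u}).Opens) (hU : y' ∈ U) (m : Γ(M.restrict V.ι, U)),
      e.hom (germ (M.restrict V.ι) y' hU m) =
        germ M y (⟨y', hU, rfl⟩ : y ∈ V.ι ''ᵁ U) ((M.restrictAppIso V.ι U).hom m) := fun U hU m =>
    congr($(Scheme.Modules.germ_restrictStalkNatIso_hom_app (U := U) V.ι y' M hU) m)
  have hsig : ∀ (U : (V : Scheme.{u}).Opens) (hU : y' ∈ U) (r : Γ((V : Scheme.{u}), U)),
      σ.hom ((V : Scheme.{u}).presheaf.germ U y' hU r) =
        X.presheaf.germ (V.ι ''ᵁ U) y ⟨y', hU, rfl⟩ ((V.ι.appIso U).inv r) := fun U hU r => by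
    rw [Scheme.Opens.ι_appIso]
    exact congr($(Scheme.Opens.germ_stalkIso_hom V y' hU) r)
  have hlin : ∀ (a : (V : Scheme.{u}).presheaf.stalk y') (v : (M.restrict V.ι).presheaf.stalk y'),
      e.hom (a • v) = σ.hom a • e.hom v := by
    intro a v
    obtain ⟨A, hA, r, rfl⟩ := TopCat.Presheaf.exists_germ_eq (V : Scheme.{u}).presheaf a
    obtain ⟨B, hB, m, rfl⟩ := exists_germ (M.restrict V.ι) y' v
    have hAB : y' ∈ A ⊓ B := ⟨hA, hB⟩
    rw [← germ_res (M.restrict V.ι) (inf_le_right : A ⊓ B ≤ B) y' hAB m,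
      ← TopCat.Presheaf.germ_res_apply (V : Scheme.{u}).presheaf
      (homOfLE (inf_le_left : A ⊓ B ≤ A)) y' hAB r]
    erw [← germ_smul (M.restrict V.ι) y' hAB]
    rw [key]
    erw [Scheme.Modules.smul_restrictAppIso_hom_apply V.ι M]
    erw [germ_smul]
    rw [key, hsig]
  have hc' : ∑ i, σ.inv (c i) • germ (M.restrict V.ι) y'
      (show y' ∈ (⊤ : (V : Scheme.{u}).Opens) from trivial) (t i) = 0 := by
    refine (ConcreteCategory.bijective_of_isIso e.hom).1 ?_
    rw [map_sum, map_zero, ← hc]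
    refine Finset.sum_congr rfl fun i _ => ?_
    rw [hlin, key, germ_res, Iso.inv_hom_id_apply σ]
  obtain ⟨d, hd⟩ := Submodule.mem_span_range_iff_exists_fun _ |>.1 ((h.2 y' trivial) _ hc')
  refine (Submodule.mem_span_range_iff_exists_fun _).2 ⟨fun j => σ.hom (d j), funext fun i => ?_⟩
  have := congrArg σ.hom (congrFun hd i)
  rw [Iso.inv_hom_id_apply σ] at this
  refine Eq.trans ?_ this
  simp only [Finset.sum_apply, Pi.smul_apply, smul_eq_mul, map_sum, map_mul]
  refine Finset.sum_congr rfl fun j _ => ?_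
  refine congrArg (σ.hom (d j) * ·) ?_
  refine Eq.trans ?_ (hsig ⊤ trivial (rel j i)).symm
  exact TopCat.Presheaf.germ_res_apply X.presheaf (homOfLE _) y hy _

/-- A module of finite presentation has finitely many generators and relations near every point. -/
theorem exists_data_of_isFP (M : X.Modules) (hM : CohB1.IsFP M) (x : X) :
    ∃ (V : X.Opens) (_ : x ∈ V) (ι : Type u) (_ : Fintype ι) (s : ι → Γ(M, V)) (κ : Type u)
      (_ : Fintype κ) (rel : κ → ι → Γ(X, V)), Spans M s ∧ Rels M s rel := by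
  obtain ⟨V, hxV, p, hp⟩ := exists_presentation_of_isFP M hM x
  have : Finite p.generators.I := hp.isFiniteType_generators.finite
  have : Finite p.relations.I := hp.isFiniteType_relations.finite
  let _ := Fintype.ofFinite p.generators.I
  let _ := Fintype.ofFinite p.relations.I
  let π : (∐ fun _ : p.generators.I => Coh.structureModule (V : Scheme.{u})) ⟶ M.restrict V.ι :=
    p.generators.π
  have : Epi π := p.generators.epi
  let ρ : (∐ fun _ : p.relations.I => Coh.structureModule (V : Scheme.{u})) ⟶ kernel π :=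
    p.relations.π
  have : Epi ρ := p.relations.epi
  obtain ⟨rel, hrel⟩ := exists_rels_of_epi π ρ
  exact ⟨V, hxV, _, inferInstance, _, _, inferInstance, _,
    spans_of_restrict M (spans_of_epi π), rels_of_restrict M hrel⟩

end Groth.VectorBundles.RefHullStalk
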